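import Cfsg.Agent.Lib.Sporadic.LyIndex.CoverDefs

/-!
# Kernel checks on the chains and pairs
-/

set_option autoImplicit false
set_option maxRecDepth 100000

namespace CfsgLib.Sporadic.CosetCert.LyIndex

theorem chainChk : ∀ i < 5, chainOK i (chains.getD i []) = true := by decide +kernel

theorem chainProds : chains.map chainProd = [1, 300000, 1008, 2880, 6048] := by decide +kernel

theorem pairChk : ∀ m < 5, ∀ s < 3, pairOK m s = true := by decide +kernel

theorem fibWord_zero : fibWord 0 = [] := by decide +kernel

theorem base_fix : ∀ x < 3, (List.range 5).any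
    (fun c => scaleIs (vimg (lineAt base0) (LyG2Five.lett14 (2 * x))) c base0) = true := by decide +kernel

end CfsgLib.Sporadic.CosetCert.LyIndex
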