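import Cfsg.Agent.Lib.Sporadic.LyIndex.Tables

/-!
# Kernel checks of the chunks 0 to 6 of the derivation
-/

set_option autoImplicit false
set_option maxRecDepth 100000

namespace CfsgLib.Sporadic.CosetCert.LyIndex

theorem okChunk0 : okChunk 0 = true := by decide +kernel

theorem okChunk1 : okChunk 1 = true := by decide +kernel

theorem okChunk2 : okChunk 2 = true := by decide +kernel

theorem okChunk3 : okChunk 3 = true := by decide +kernel

theorem okChunk4 : okChunk 4 = true := by decide +kernel

theorem okChunk5 : okChunk 5 = true := by decide +kernel

theorem okChunk6 : okChunk 6 = true := by decide +kernel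

end CfsgLib.Sporadic.CosetCert.LyIndex
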