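import Cfsg.Agent.Lib.Sporadic.LyIndex.Tables

/-!
# Kernel checks of the chunks 7 to 13 of the derivation
-/

set_option autoImplicit false
set_option maxRecDepth 100000

namespace CfsgLib.Sporadic.CosetCert.LyIndex

theorem okChunk7 : okChunk 7 = true := by decide +kernel

theorem okChunk8 : okChunk 8 = true := by decide +kernel

theorem okChunk9 : okChunk 9 = true := by decide +kernel

theorem okChunk10 : okChunk 10 = true := by decide +kernel

theorem okChunk11 : okChunk 11 = true := by decide +kernel

theorem okChunk12 : okChunk 12 = true := by decide +kernel

theorem okChunk13 : okChunk 13 = true := by decide +kernel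

end CfsgLib.Sporadic.CosetCert.LyIndex
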