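import Cfsg.Agent.Lib.Sporadic.LyIndex.Tables

/-!
# Kernel checks of the chunks 14 to 20 of the derivation
-/

set_option autoImplicit false
set_option maxRecDepth 100000

namespace CfsgLib.Sporadic.CosetCert.LyIndex

theorem okChunk14 : okChunk 14 = true := by decide +kernel

theorem okChunk15 : okChunk 15 = true := by decide +kernel

theorem okChunk16 : okChunk 16 = true := by decide +kernel

theorem okChunk17 : okChunk 17 = true := by decide +kernel

theorem okChunk18 : okChunk 18 = true := by decide +kernel

theorem okChunk19 : okChunk 19 = true := by decide +kernel

theorem okChunk20 : okChunk 20 = true := by decide +kernel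

end CfsgLib.Sporadic.CosetCert.LyIndex
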