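import Cfsg.Agent.Lib.Sporadic.LyIndex.Tables

/-!
# Kernel checks of the chunks 21 to 27 of the derivation
-/

set_option autoImplicit false
set_option maxRecDepth 100000

namespace CfsgLib.Sporadic.CosetCert.LyIndex

theorem okChunk21 : okChunk 21 = true := by decide +kernel

theorem okChunk22 : okChunk 22 = true := by decide +kernel

theorem okChunk23 : okChunk 23 = true := by decide +kernel

theorem okChunk24 : okChunk 24 = true := by decide +kernel

theorem okChunk25 : okChunk 25 = true := by decide +kernel

theorem okChunk26 : okChunk 26 = true := by decide +kernel

theorem okChunk27 : okChunk 27 = true := by decide +kernel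

end CfsgLib.Sporadic.CosetCert.LyIndex
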