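import Cfsg.Agent.Lib.Sporadic.LyIndex.Tables

/-!
# Kernel checks of the chunks 28 to 34 of the derivation
-/

set_option autoImplicit false
set_option maxRecDepth 100000

namespace CfsgLib.Sporadic.CosetCert.LyIndex

theorem okChunk28 : okChunk 28 = true := by decide +kernel

theorem okChunk29 : okChunk 29 = true := by decide +kernel

theorem okChunk30 : okChunk 30 = true := by decide +kernel

theorem okChunk31 : okChunk 31 = true := by decide +kernel

theorem okChunk32 : okChunk 32 = true := by decide +kernel

theorem okChunk33 : okChunk 33 = true := by decide +kernel

theorem okChunk34 : okChunk 34 = true := by decide +kernel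

end CfsgLib.Sporadic.CosetCert.LyIndex
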