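import Cfsg.Agent.Lib.Sporadic.LyIndex.Tables

/-!
# Kernel checks of the chunks 35 to 41 of the derivation
-/

set_option autoImplicit false
set_option maxRecDepth 100000

namespace CfsgLib.Sporadic.CosetCert.LyIndex

theorem okChunk35 : okChunk 35 = true := by decide +kernel

theorem okChunk36 : okChunk 36 = true := by decide +kernel

theorem okChunk37 : okChunk 37 = true := by decide +kernel

theorem okChunk38 : okChunk 38 = true := by decide +kernel

theorem okChunk39 : okChunk 39 = true := by decide +kernel

theorem okChunk40 : okChunk 40 = true := by decide +kernel

theorem okChunk41 : okChunk 41 = true := by decide +kernel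

end CfsgLib.Sporadic.CosetCert.LyIndex
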