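import Cfsg.Agent.Lib.Sporadic.LyIndex.Tables

/-!
# Kernel checks of the chunks 42 to 48 of the derivation
-/

set_option autoImplicit false
set_option maxRecDepth 100000

namespace CfsgLib.Sporadic.CosetCert.LyIndex

theorem okChunk42 : okChunk 42 = true := by decide +kernel

theorem okChunk43 : okChunk 43 = true := by decide +kernel

theorem okChunk44 : okChunk 44 = true := by decide +kernel

theorem okChunk45 : okChunk 45 = true := by decide +kernel

theorem okChunk46 : okChunk 46 = true := by decide +kernel

theorem okChunk47 : okChunk 47 = true := by decide +kernel

theorem okChunk48 : okChunk 48 = true := by decide +kernel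

end CfsgLib.Sporadic.CosetCert.LyIndex
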