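import Cfsg.Agent.Lib.Sporadic.LyIndex.Tables

/-!
# Kernel checks of the chunks 49 to 51 of the derivation
-/

set_option autoImplicit false
set_option maxRecDepth 100000

namespace CfsgLib.Sporadic.CosetCert.LyIndex

theorem okChunk49 : okChunk 49 = true := by decide +kernel

theorem okChunk50 : okChunk 50 = true := by decide +kernel

theorem okChunk51 : okChunk 51 = true := by decide +kernel

end CfsgLib.Sporadic.CosetCert.LyIndex
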