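import Cfsg.Agent.Lib.Sporadic.LyIndex.CoverDefs

/-!
# Kernel checks on the orbits of class 1
-/

set_option autoImplicit false
set_option maxRecDepth 100000

namespace CfsgLib.Sporadic.CosetCert.LyIndex

theorem covChk1 : ∀ k < 8, covChk 1 k = true := by decide +kernel

theorem edgeChk1 : ∀ o < numOrb 1, edgeOK 1 o = true := by decide +kernel

end CfsgLib.Sporadic.CosetCert.LyIndex
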